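import Groth.Agent.KTop28.Basic
import Groth.Agent.KPr28.Push
import Groth.Agent.AmpleLib.Tensor
import Groth.Agent.Coherent.DevissageIdeal
import Groth.Agent.Coherent.CohOps
import Groth.Agent.Coherent.RpushSupport

/-!
# Coherent modules isomorphic on an open: classes and comparison spans
-/

set_option autoImplicit false
set_option linter.style.haveILetI false
set_option backward.isDefEq.respectTransparency false
set_option backward.isDefEq.respectTransparency.types false
set_option linter.unusedSectionVars false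

universe u

open CategoryTheory CategoryTheory.Limits AlgebraicGeometry TopologicalSpace
open Groth.Agent.Coherent Groth.Agent.ModStalk

namespace Groth.Agent.KNil8

variable {X : Scheme.{u}}

local notation "St" => DerSch.stalkFunctor X
local notation "KC" => KZero.K0sub (fun M : X.Modules => Coh.IsCoh M)
local notation "cl" => KZero.clSub (fun M : X.Modules => Coh.IsCoh M)

variable (X) in
/-- The subgroup generated by the classes of the point sheaves of `S`. -/
noncomputable def gen (S : Set X) : AddSubgroup KC :=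
  AddSubgroup.closure {c : KC | ∃ x ∈ S, c = cl (CycLib28.InterSheaf.pointSheaf x)}

theorem gen_mono {S T : Set X} (h : S ⊆ T) : gen X S ≤ gen X T :=
  AddSubgroup.closure_mono fun _ ⟨x, hx, e⟩ => ⟨x, h hx, e⟩

variable [IsNoetherian X]

theorem cl_mem_gen {F : X.Modules} (hF : Coh.IsCoh F) {S : Set X} (h : CohB1.support F ⊆ S) : cl F ∈ gen X S :=
  gen_mono h (KTop28.cl_mem_closure_points F hF)

theorem not_mem_support_kernel {A B : X.Modules} (φ : A ⟶ B) {x : X} (h : IsIso ((St x).map φ)) :
    x ∉ CohB1.support (kernel φ) := fun hx => by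
  refine hx ?_
  have hz : IsZero ((St x).obj (kernel φ)) :=
    (isZero_kernel_of_mono ((St x).map φ)).of_iso (PreservesKernel.iso (St x) φ)
  haveI := ModuleCat.subsingleton_of_isZero hz
  exact ‹Subsingleton ((St x).obj (kernel φ))›

theorem not_mem_support_cokernel {A B : X.Modules} (φ : A ⟶ B) {x : X} (h : IsIso ((St x).map φ)) :
    x ∉ CohB1.support (cokernel φ) := fun hx => by
  refine hx ?_
  have hz : IsZero ((St x).obj (cokernel φ)) :=
    (isZero_cokernel_of_epi ((St x).map φ)).of_iso (PreservesCokernel.iso (St x) φ)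
  haveI := ModuleCat.subsingleton_of_isZero hz
  exact ‹Subsingleton ((St x).obj (cokernel φ))›

theorem support_subset_of_epi {M N : X.Modules} (f : M ⟶ N) [Epi f] :
    CohB1.support N ⊆ CohB1.support M := fun z hz hM =>
  hz (@Function.Surjective.subsingleton _ _ _ hM ((ModuleCat.epi_iff_surjective ((St z).map f)).1 inferInstance))

/-- If `φ` is an isomorphism on the stalks in `U`, the classes differ by points of the supports outside `U`. -/
theorem cl_sub_cl_mem {A B : X.Modules} (hA : Coh.IsCoh A) (hB : Coh.IsCoh B) (φ : A ⟶ B) (U : Set X)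
    (h : ∀ x ∈ U, IsIso ((St x).map φ)) {S : Set X} (hAS : CohB1.support A ⊆ S) (hBS : CohB1.support B ⊆ S) :
    cl B - cl A ∈ gen X (S \ U) := by
  have hK : Coh.IsCoh (kernel φ) := isCoh_kernel φ hA hB.1
  have hC : Coh.IsCoh (cokernel φ) := isCoh_cokernel φ hA.1 hB
  have hI : Coh.IsCoh (Abelian.image φ) := isCoh_kernel (cokernel.π φ) hB hC.1
  let S₁ : ShortComplex X.Modules := ShortComplex.mk (kernel.ι φ) (Abelian.factorThruImage φ) (by
    rw [← cancel_mono (Abelian.image.ι φ), Category.assoc, Abelian.image.fac, kernel.condition, zero_comp])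
  have hS₁ : S₁.ShortExact :=
    { exact := ShortComplex.exact_of_f_is_kernel _ (KernelFork.IsLimit.ofι' _ _ (fun k hk =>
        ⟨kernel.lift φ k (by rw [← Abelian.image.fac φ, ← Category.assoc, hk, zero_comp]), kernel.lift_ι _ _ _⟩))
      mono_f := inferInstanceAs (Mono (kernel.ι φ))
      epi_g := inferInstanceAs (Epi (Abelian.factorThruImage φ)) }
  let S₂ : ShortComplex X.Modules := ShortComplex.mk (Abelian.image.ι φ) (cokernel.π φ) (kernel.condition _)
  have hS₂ : S₂.ShortExact :=
    { exact := ShortComplex.exact_of_f_is_kernel _ (kernelIsKernel _)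
      mono_f := inferInstanceAs (Mono (kernel.ι (cokernel.π φ)))
      epi_g := inferInstanceAs (Epi (cokernel.π φ)) }
  have e₁ : cl A = cl (kernel φ) + cl (Abelian.image φ) := KTop28.cl_ses hS₁ hK hA hI
  have e₂ : cl B = cl (Abelian.image φ) + cl (cokernel φ) := KTop28.cl_ses hS₂ hI hB hC
  rw [show cl B - cl A = cl (cokernel φ) - cl (kernel φ) by rw [e₁, e₂]; abel]
  exact sub_mem
    (cl_mem_gen hC fun x hx => ⟨hBS (support_subset_of_epi (cokernel.π φ) hx),
      fun hxU => not_mem_support_cokernel φ (h x hxU) hx⟩)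
    (cl_mem_gen hK fun x hx => ⟨hAS (Coherent.support_subset_of_mono (kernel.ι φ) hx),
      fun hxU => not_mem_support_kernel φ (h x hxU) hx⟩)

/-- An isomorphism of coherent modules on an open extends to a span of coherent modules. -/
theorem exists_span {A B : X.Modules} (hA : Coh.IsCoh A) (hB : Coh.IsCoh B) (U : X.Opens)
    (φ : A.restrict U.ι ≅ B.restrict U.ι) :
    ∃ (H : X.Modules) (_ : Coh.IsCoh H) (a : H ⟶ A) (b : H ⟶ B),
      ∀ x ∈ U, IsIso ((St x).map a) ∧ IsIso ((St x).map b) := by
  haveI : Coh.IsQCoh B := hB.1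
  haveI : Coh.IsQCoh A := hA.1
  let Q := (Coh.push U.ι).obj (B.restrict U.ι)
  have hQ : Coh.IsQCoh Q := isQCoh_push U.ι _
  let u₁ : A ⟶ Q := (Scheme.Modules.restrictAdjunction U.ι).unit.app A ≫ (Coh.push U.ι).map φ.hom
  let u₂ : B ⟶ Q := (Scheme.Modules.restrictAdjunction U.ι).unit.app B
  have hP : Coh.IsCoh (A ⊞ B) :=
    isCoh_X₂ (ShortComplex.Splitting.ofHasBinaryBiproduct A B).shortExact hA hB
  let c := PullbackCone.mk (pullback.fst u₁ u₂) (pullback.snd u₁ u₂) pullback.condition
  have e : pullback u₁ u₂ ≅ kernel (biprod.desc u₁ (-u₂)) :=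
    (CategoryTheory.Abelian.PullbackToBiproductIsKernel.isLimitPullbackToBiproduct u₁ u₂).conePointUniqueUpToIso
      (limit.isLimit _)
  refine ⟨pullback u₁ u₂, Coherent.isCoh_of_iso e.symm (isCoh_kernel _ hP hQ), pullback.fst u₁ u₂,
    pullback.snd u₁ u₂, fun x hx => ?_⟩
  have h₂ : IsIso ((St x).map u₂) :=
    (ConcreteCategory.isIso_iff_bijective _).2 (bijective_stalk_restrictUnit B hx)
  have h₁ : IsIso ((St x).map u₁) := by
    haveI : IsIso ((St x).map ((Scheme.Modules.restrictAdjunction U.ι).unit.app A)) :=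
      (ConcreteCategory.isIso_iff_bijective _).2 (bijective_stalk_restrictUnit A hx)
    rw [Functor.map_comp]
    infer_instance
  have hp := (IsPullback.of_hasPullback u₁ u₂).map (St x)
  exact ⟨hp.isIso_fst_of_isIso, hp.isIso_snd_of_isIso⟩

instance additive_tensorBi_flip_obj (F : X.Modules) : ((DCoh.tensorBi (X := X)).flip.obj F).Additive where
  map_add {P Q f g} := by
    simp [Functor.map_add]

/-- `cl (O^r ⊗ F) = r cl F`. -/
theorem cl_free_tensor {F : X.Modules} (hF : Coh.IsCoh F) (r : ℕ) :
    cl (((DCoh.tensorBi (X := X)).obj (FlatMod.freeMod X r)).obj F) = r • cl F := by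
  haveI : PreservesFiniteCoproducts ((DCoh.tensorBi (X := X)).flip.obj F) :=
    ⟨fun k => preservesCoproductsOfShape_of_preservesBiproductsOfShape _⟩
  let e : ((DCoh.tensorBi (X := X)).obj (FlatMod.freeMod X r)).obj F ≅ ∐ fun _ : Fin r => F :=
    PreservesCoproduct.iso ((DCoh.tensorBi (X := X)).flip.obj F) _ ≪≫
      Sigma.mapIso (fun _ => AmpleLib.unitTensorIso F)
  have h := KPr28.sigma_copies (A := X.Modules) (P := fun M : X.Modules => Coh.IsCoh M)
    (fun S hS h₁ h₃ => isCoh_X₂ hS h₁ h₃) (fun Z hZ => KZeroLib.isCoh_isZero hZ)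
    (fun M => cl M) (fun S hS h₁ h₂ h₃ => KTop28.cl_ses hS h₁ h₂ h₃) F hF r
  rw [KTop28.cl_iso e, ← natCast_zsmul]
  exact h.2

theorem isIso_stalk_tensor {A B : X.Modules} (a : A ⟶ B) (F : X.Modules) (x : X) (h : IsIso ((St x).map a)) :
    IsIso ((St x).map (((DCoh.tensorBi (X := X)).map a).app F)) := by
  have hn := stalkTensorIso_natural (x := x) a (𝟙 F)
  have e : ((DCoh.tensorBi (X := X)).map a).app F =
      ((DCoh.tensorBi (X := X)).map a).app F ≫ ((DCoh.tensorBi (X := X)).obj B).map (𝟙 F) := by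
    rw [CategoryTheory.Functor.map_id, Category.comp_id]
  rw [e]
  haveI := h
  refine @IsIso.of_isIso_comp_right _ _ _ _ _ _ (stalkTensorIso x B F).hom inferInstance ?_
  rw [hn]
  infer_instance

theorem mapSub_cl (G : X.Modules ⥤ X.Modules) [G.Additive] [PreservesFiniteLimits G] [PreservesFiniteColimits G]
    (h : ∀ M : X.Modules, Coh.IsCoh M → Coh.IsCoh (G.obj M)) {M : X.Modules} (hM : Coh.IsCoh M) :
    SGA6.mapSub G (fun M : X.Modules => Coh.IsCoh M) (fun M : X.Modules => Coh.IsCoh M) h (cl M) = cl (G.obj M) := by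
  rw [KZero.clSub, KZero.clSub, dif_pos hM, dif_pos (h M hM)]
  show QuotientAddGroup.map _ _ _ _ _ = _
  erw [QuotientAddGroup.map_mk]
  exact congrArg _ (FreeAbelianGroup.map_of_apply _)

end Groth.Agent.KNil8
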