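import Groth.Agent.KNil8.Basic
import Groth.Agent.VarietyLib.CurveDegree
import Groth.Agent.DCat.PerfTensor

/-!
# `[V] - rank` is nilpotent on `K₀(Coh)`
-/

set_option autoImplicit false
set_option linter.style.haveILetI false
set_option backward.isDefEq.respectTransparency false
set_option backward.isDefEq.respectTransparency.types false

universe u

open CategoryTheory CategoryTheory.Limits AlgebraicGeometry TopologicalSpace
open Groth.Agent.Coherent Groth.Agent.ModStalk

namespace Groth.Agent.KNil8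

variable {X : Scheme.{u}} [IsNoetherian X]

local notation "cl" => KZero.clSub (fun M : X.Modules => Coh.IsCoh M)

theorem exists_iterate_eq_zero (r : ℕ) (V : X.Modules) (hV : FlatMod.IsFinLocFreeOfRank r V)
    [((DCoh.tensorBi (X := X)).obj V).Additive] [PreservesFiniteLimits ((DCoh.tensorBi (X := X)).obj V)]
    [PreservesFiniteColimits ((DCoh.tensorBi (X := X)).obj V)]
    (hVc : ∀ M : X.Modules, Coh.IsCoh M → Coh.IsCoh (((DCoh.tensorBi (X := X)).obj V).obj M)) :
    ∃ n : ℕ, ∀ y : SGA6.Kcoh X,
      (⇑(SGA6.mapSub ((DCoh.tensorBi (X := X)).obj V) (fun M : X.Modules => Coh.IsCoh M) (fun M : X.Modules => Coh.IsCoh M) hVc -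
        r • AddMonoidHom.id (SGA6.Kcoh X)))^[n] y = 0 := by
  choose U hxU hU using hV
  obtain ⟨t, ht⟩ := isCompact_univ.elim_finite_subcover (fun x : X => (U x : Set X)) (fun x => (U x).2)
    fun x _ => Set.mem_iUnion.2 ⟨x, hxU x⟩
  let D := SGA6.mapSub ((DCoh.tensorBi (X := X)).obj V) (fun M : X.Modules => Coh.IsCoh M)
    (fun M : X.Modules => Coh.IsCoh M) hVc - r • AddMonoidHom.id (SGA6.Kcoh X)
  have hVcoh : Coh.IsCoh V := Coherent.CohBC.isCoh_of_isFinLocFree fun x => ⟨U x, r, hxU x, hU x⟩
  have hFr : Coh.IsCoh (FlatMod.freeMod X r) :=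
    Coherent.CohBC.isCoh_of_isFinLocFree fun _ => ⟨⊤, r, trivial, ⟨(Scheme.Modules.restrictFunctorIsoPullback _).app _ ≪≫
      (DCat.PerfTensor.nonempty_pullback_free (Scheme.Opens.ι ⊤) r).some⟩⟩
  -- one step
  have step : ∀ (S : Set X), IsClosed S → ∀ (z : X) (c : SGA6.Kcoh X), c ∈ gen X S → D c ∈ gen X (S \ U z) := by
    intro S hS z c hc
    obtain ⟨e⟩ := hU z
    obtain ⟨e'⟩ := DCat.PerfTensor.nonempty_pullback_free (U z).ι r
    obtain ⟨H, hH, a, b, hab⟩ := exists_span hVcoh hFr (U z)
      (e ≪≫ e'.symm ≪≫ ((Scheme.Modules.restrictFunctorIsoPullback _).app _).symm)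
    refine (AddSubgroup.closure_le (K := (gen X (S \ U z)).comap D)).2 ?_ hc
    rintro _ ⟨x, hx, rfl⟩
    show D _ ∈ gen X (S \ U z)
    let F := CycLib28.InterSheaf.pointSheaf x
    have hF : Coh.IsCoh F := (CycLib28.K0.cohAt_pointSheaf x).1
    have hFS : CohB1.support F ⊆ S :=
      ((CycLib28.K0.cohAt_pointSheaf x).2).trans (hS.closure_subset_iff.2 (Set.singleton_subset_iff.2 hx))
    let T : X.Modules → X.Modules := fun M => ((DCoh.tensorBi (X := X)).obj M).obj F
    have hTs : ∀ M, CohB1.support (T M) ⊆ S := fun M => (KTop28.support_tensorMod_subset M F).trans hFS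
    have h₁ : cl (T V) - cl (T H) ∈ gen X (S \ U z) :=
      cl_sub_cl_mem (VarietyLib.isCoh_tensor' hH hF) (VarietyLib.isCoh_tensor' hVcoh hF)
        (((DCoh.tensorBi (X := X)).map a).app F) _ (fun y hy => isIso_stalk_tensor a F y (hab y hy).1) (hTs H) (hTs V)
    have h₂ : cl (T (FlatMod.freeMod X r)) - cl (T H) ∈ gen X (S \ U z) :=
      cl_sub_cl_mem (VarietyLib.isCoh_tensor' hH hF) (VarietyLib.isCoh_tensor' hFr hF)
        (((DCoh.tensorBi (X := X)).map b).app F) _ (fun y hy => isIso_stalk_tensor b F y (hab y hy).2) (hTs H)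
        (hTs (FlatMod.freeMod X r))
    have h := sub_mem h₁ h₂
    rw [sub_sub_sub_cancel_right, cl_free_tensor hF] at h
    show SGA6.mapSub _ _ _ hVc (cl F) - r • cl F ∈ _
    rw [mapSub_cl _ hVc hF]
    exact h
  -- iteration
  have main : ∀ (s : Finset X) (c : SGA6.Kcoh X) (S : Set X), IsClosed S → c ∈ gen X S →
      (⇑D)^[s.card] c ∈ gen X (S \ ⋃ z ∈ s, (U z : Set X)) := by
    classical
    intro s
    induction s using Finset.induction_on with
    | empty => intro c S _ hc; simpa using hc
    | @insert z s hz ih =>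
      intro c S hS hc
      rw [Finset.card_insert_of_notMem hz, Function.iterate_succ_apply']
      refine gen_mono ?_ (step _ (hS.sdiff (isOpen_biUnion fun i _ => (U i).2)) z _ (ih c S hS hc))
      simp [Set.diff_diff, Set.union_comm]
  refine ⟨t.card, fun y => ?_⟩
  have hy : y ∈ gen X Set.univ := by
    induction y using QuotientAddGroup.induction_on with | _ g =>
    induction g using FreeAbelianGroup.induction_on with
    | zero => exact zero_mem _
    | of M =>
      have := cl_mem_gen M.2 (Set.subset_univ (CohB1.support M.1))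
      rwa [KZero.clSub, dif_pos M.2] at this
    | neg M h => exact neg_mem h
    | add a b ha hb => exact add_mem ha hb
  have h := main t y Set.univ isClosed_univ hy
  rw [show Set.univ \ ⋃ z ∈ t, (U z : Set X) = ∅ by simpa [Set.diff_eq_empty] using ht] at h
  simpa [gen] using h

end Groth.Agent.KNil8
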